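import Groth.Agent.S2768
import Groth.Prelude.Def_CInt
import Mathlib.AlgebraicGeometry.Morphisms.Etale
import Mathlib.AlgebraicGeometry.Morphisms.FlatMono
import Mathlib.RingTheory.Smooth.StandardSmoothCotangent

/-! # Étale separated maps that are isomorphisms over a schematically dense open are open immersions -/

set_option autoImplicit false
set_option linter.style.haveILetI false
set_option backward.isDefEq.respectTransparency.types false
set_option backward.isDefEq.respectTransparency false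

universe u

open CategoryTheory CategoryTheory.Limits AlgebraicGeometry TopologicalSpace

noncomputable section

namespace Groth.L05.NeronOpen

variable {S M N : Scheme.{u}} (S₀ : S.Opens)

theorem dense_of_schDense (h : CInt.IsSchematicallyDense S₀) : Dense (S₀ : Set S) := by
  rw [dense_iff_inter_open]
  intro V hV hne
  by_contra h0
  let V' : S.Opens := ⟨V, hV⟩
  have hbot : V' ⊓ S₀ = ⊥ := Opens.ext (Set.not_nonempty_iff_eq_empty.mp h0)
  haveI : Subsingleton Γ(S, V' ⊓ S₀) := by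
    rw [hbot]
    exact CommRingCat.subsingleton_of_isTerminal S.sheaf.isTerminalOfEmpty
  haveI : Nonempty (V' : Scheme.{u}) := hne.to_subtype
  haveI : Nonempty V' := hne.to_subtype
  exact not_subsingleton Γ(S, V') (h V').subsingleton

theorem dense_preimage {f : N ⟶ S} [Smooth f] (hd : Dense (S₀ : Set S)) : Dense ((f ⁻¹ᵁ S₀ : N.Opens) : Set N) :=
  hd.preimage (Scheme.Hom.isOpenMap f)

/-- A smooth morphism étale over a dense open is étale. -/
theorem etale_of_dense (f : N ⟶ S) [Smooth f] (hd : Dense (S₀ : Set S)) [Etale (f ∣_ S₀)] : Etale f := by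
  rw [Etale.iff_smoothOfRelativeDimension_zero]
  refine ⟨fun x => ?_⟩
  obtain ⟨V, hV, U, hU, hxU, e, hstd⟩ := Smooth.exists_isStandardSmooth f x
  refine ⟨V, hV, U, hU, hxU, e, ?_⟩
  let φ := f.appLE V U e
  letI : Algebra Γ(S, V) Γ(N, U) := φ.hom.toAlgebra
  haveI : Algebra.IsStandardSmooth Γ(S, V) Γ(N, U) := hstd
  haveI : Nonempty U := ⟨⟨_, hxU⟩⟩
  let n := Module.finrank Γ(N, U) Ω[Γ(N, U)⁄Γ(S, V)]
  haveI hn : Algebra.IsStandardSmoothOfRelativeDimension n Γ(S, V) Γ(N, U) :=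
    (Algebra.IsStandardSmoothOfRelativeDimension.iff_of_isStandardSmooth n).mpr (Module.finrank_eq_rank _ _).symm
  haveI : SmoothOfRelativeDimension n (Spec.map φ) := by
    rw [HasRingHomProperty.Spec_iff (P := @SmoothOfRelativeDimension n)]
    exact RingHom.locally_of (RingHom.isStandardSmoothOfRelativeDimension_respectsIso) _ hn
  obtain ⟨z, hzS, hzU⟩ : ∃ z, z ∈ f ⁻¹ᵁ S₀ ∧ z ∈ U := by
    obtain ⟨z, h1, h2⟩ := (dense_preimage S₀ (f := f) hd).inter_open_nonempty U U.2 ⟨x, hxU⟩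
    exact ⟨z, h2, h1⟩
  let j : Spec Γ(N, U) ⟶ N := hU.fromSpec
  let O : (Spec Γ(N, U)).Opens := j ⁻¹ᵁ f ⁻¹ᵁ S₀
  let g : (O : Scheme.{u}) ⟶ S := O.ι ≫ Spec.map φ ≫ hV.fromSpec
  have hg : g = O.ι ≫ j ≫ f := by rw [← IsAffineOpen.SpecMap_appLE_fromSpec f hV hU e]
  haveI : SmoothOfRelativeDimension n g := by
    haveI : SmoothOfRelativeDimension (n + 0) (Spec.map φ ≫ hV.fromSpec) := inferInstance
    haveI : SmoothOfRelativeDimension (0 + (n + 0)) (O.ι ≫ Spec.map φ ≫ hV.fromSpec) := inferInstance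
    simpa using this
  haveI : Etale ((f ⁻¹ᵁ S₀).ι ≫ f) := by
    rw [← morphismRestrict_ι]
    infer_instance
  haveI : Etale g := by
    rw [hg, ← Category.assoc, show O.ι ≫ j = (j ∣_ (f ⁻¹ᵁ S₀)) ≫ (f ⁻¹ᵁ S₀).ι from
      (morphismRestrict_ι _ _).symm, Category.assoc]
    infer_instance
  obtain ⟨w, hw⟩ : ∃ w : Spec Γ(N, U), j w = z := by
    rw [← Set.mem_range, hU.range_fromSpec]; exact hzU
  let w' : (O : Scheme.{u}) := ⟨w, show j w ∈ f ⁻¹ᵁ S₀ from hw ▸ hzS⟩
  have h1 := Groth.L20.SmoothDim.main n g w'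
  rw [Groth.L20.SmoothDim.main 0 g w'] at h1
  have h0 : n = 0 := by exact_mod_cast h1.symm
  show Algebra.IsStandardSmoothOfRelativeDimension 0 Γ(S, V) Γ(N, U)
  exact h0 ▸ hn

/-- An étale separated morphism which is a monomorphism over a dense open is an open immersion. -/
theorem isOpenImmersion_of_dense (φ : M ⟶ N) [Etale φ] [IsSeparated φ] (N₀ : N.Opens)
    (hd : Dense (N₀ : Set N)) [Mono ((φ ⁻¹ᵁ N₀).ι ≫ φ)] : IsOpenImmersion φ := by
  suffices Mono φ from IsOpenImmersion.of_flat_of_mono φ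
  rw [← pullback.isIso_diagonal_iff, isIso_iff_isOpenImmersion_and_surjective]
  refine ⟨inferInstance, ⟨?_⟩⟩
  let q : pullback φ φ ⟶ N := pullback.fst φ φ ≫ φ
  let W : (pullback φ φ).Opens := q ⁻¹ᵁ N₀
  have hW : Dense (W : Set ↥(pullback φ φ)) := dense_preimage N₀ (f := q) hd
  have hsub : (W : Set ↥(pullback φ φ)) ⊆ Set.range (pullback.diagonal φ) := by
    intro w hw
    let a := IsOpenImmersion.lift (φ ⁻¹ᵁ N₀).ι (W.ι ≫ pullback.fst φ φ) (by
      rw [Scheme.Opens.range_ι]
      rintro _ ⟨t, rfl⟩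
      exact t.2)
    let b := IsOpenImmersion.lift (φ ⁻¹ᵁ N₀).ι (W.ι ≫ pullback.snd φ φ) (by
      rw [Scheme.Opens.range_ι]
      rintro _ ⟨t, rfl⟩
      show (pullback.snd φ φ ≫ φ) (W.ι t) ∈ N₀
      rw [← pullback.condition]
      exact t.2)
    have hab : a = b := by
      rw [← cancel_mono ((φ ⁻¹ᵁ N₀).ι ≫ φ)]
      simp only [a, b, IsOpenImmersion.lift_fac_assoc, Category.assoc, pullback.condition]
    have hfac : W.ι = (W.ι ≫ pullback.fst φ φ) ≫ pullback.diagonal φ := by
      apply pullback.hom_ext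
      · rw [Category.assoc, pullback.diagonal_fst, Category.comp_id]
      · rw [Category.assoc, pullback.diagonal_snd, Category.comp_id]
        have := congrArg (· ≫ (φ ⁻¹ᵁ N₀).ι) hab
        simp only [a, b, IsOpenImmersion.lift_fac] at this
        exact this.symm
    exact ⟨(W.ι ≫ pullback.fst φ φ) ⟨w, hw⟩, (congr($hfac ⟨w, hw⟩)).symm⟩
  intro w
  exact (closure_minimal hsub (pullback.diagonal φ).isClosedEmbedding.isClosed_range) (hW w)

end Groth.L05.NeronOpen
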